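import Mathlib.AlgebraicGeometry.AffineTransitionLimit
import Mathlib.AlgebraicGeometry.Morphisms.Proper

/-!
# The closed part of a limit of schemes over a system of rings
-/

set_option autoImplicit false
set_option linter.style.haveILetI false
set_option backward.isDefEq.respectTransparency false
set_option backward.isDefEq.respectTransparency.types false

universe u

open CategoryTheory CategoryTheory.Limits AlgebraicGeometry Opposite

noncomputable section

namespace Groth.Agent.Pi1Hens.ClosedLimit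

/-- The ring map of a morphism to an affine scheme. -/
def adj {T : Scheme.{u}} {B : Type u} [CommRing B] (g : T ⟶ Spec (CommRingCat.of B)) : B →+* Γ(T, ⊤) :=
  ((Scheme.ΓSpecIso (CommRingCat.of B)).inv ≫ g.appTop).hom

theorem eq_toSpec_adj {T : Scheme.{u}} {B : Type u} [CommRing B] (g : T ⟶ Spec (CommRingCat.of B)) :
    g = T.toSpecΓ ≫ Spec.map (CommRingCat.ofHom (adj g)) := by
  show g = T.toSpecΓ ≫ Spec.map ((Scheme.ΓSpecIso (CommRingCat.of B)).inv ≫ g.appTop)
  rw [Spec.map_comp, ← Category.assoc, ← Scheme.toSpecΓ_naturality, Category.assoc,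
    ← SpecMap_ΓSpecIso_hom (CommRingCat.of B), ← Spec.map_comp, Iso.inv_hom_id, Spec.map_id]
  exact (Category.comp_id g).symm

theorem adj_comp {T : Scheme.{u}} {B : CommRingCat.{u}} {C : Type u} [CommRing C]
    (g : T ⟶ Spec (CommRingCat.of C)) (h : B ⟶ CommRingCat.of C) :
    adj (B := B) (g ≫ Spec.map h) = (adj g).comp h.hom := by
  refine congrArg CommRingCat.Hom.hom (?_ : _ = h ≫ (Scheme.ΓSpecIso (CommRingCat.of C)).inv ≫ g.appTop)
  rw [Scheme.Hom.comp_appTop, Scheme.ΓSpecIso_inv_naturality_assoc]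

theorem adj_eq_zero {T : Scheme.{u}} {B : CommRingCat.{u}} {C : Type u} [CommRing C]
    {g : T ⟶ Spec (CommRingCat.of C)} (h : B ⟶ CommRingCat.of C) (L : Ideal B)
    (k : T ⟶ Spec (CommRingCat.of (B ⧸ L))) (e : g ≫ Spec.map h = k ≫ Spec.map (CommRingCat.ofHom (Ideal.Quotient.mk L)))
    (r : B) (hr : r ∈ L) : adj g (h r) = 0 := by
  have e' := congrArg (fun k => adj (B := B) k r) e
  simp only [adj_comp, RingHom.comp_apply] at e'
  refine e'.trans ?_
  show adj k (Ideal.Quotient.mk L r) = 0
  rw [Ideal.Quotient.eq_zero_iff_mem.2 hr, map_zero]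

variable {J : Type u} [Category.{u} J] {D : J ⥤ Scheme.{u}} (R : Jᵒᵖ ⥤ CommRingCat.{u})
  (φ : D ⟶ R.rightOp ⋙ Scheme.Spec) {A : Type u} [CommRing A]
  (ρ : ∀ j, R.obj (op j) ⟶ CommRingCat.of A) (hρ : ∀ {i j : J} (a : i ⟶ j), R.map a.op ≫ ρ i = ρ j)
  (I : Ideal A)

/-- The ideal at a stage. -/
abbrev K (j : J) : Ideal (R.obj (op j)) := I.comap (ρ j).hom

/-- The closed immersion at a stage. -/
abbrev q (j : J) : Spec (CommRingCat.of (R.obj (op j) ⧸ K R ρ I j)) ⟶ (R.rightOp ⋙ Scheme.Spec).obj j :=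
  Spec.map (CommRingCat.ofHom (Ideal.Quotient.mk (K R ρ I j)))

instance isClosedImmersion_q (j : J) : IsClosedImmersion (q R ρ I j) :=
  IsClosedImmersion.spec_of_surjective _ Ideal.Quotient.mk_surjective

include hρ in
theorem le_comap {i j : J} (a : i ⟶ j) : K R ρ I j ≤ (K R ρ I i).comap (R.map a.op).hom := fun r hr => by
  show ρ i (R.map a.op r) ∈ I
  rw [show ρ i (R.map a.op r) = ρ j r from ConcreteCategory.congr_hom (hρ a) r]
  exact hr

/-- The transition maps of the closed parts of the bases. -/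
abbrev qmap {i j : J} (a : i ⟶ j) :=
  Spec.map (CommRingCat.ofHom (Ideal.quotientMap (K R ρ I i) (R.map a.op).hom (le_comap R ρ hρ I a)))

include hρ in
theorem qmap_q {i j : J} (a : i ⟶ j) : qmap R ρ hρ I a ≫ q R ρ I j = q R ρ I i ≫ (R.rightOp ⋙ Scheme.Spec).map a := by
  show Spec.map _ ≫ Spec.map _ = Spec.map _ ≫ Spec.map (R.map a.op)
  rw [← Spec.map_comp, ← Spec.map_comp]
  rfl

/-- The closed parts. -/
def diag : J ⥤ Scheme.{u} where
  obj j := pullback (φ.app j) (q R ρ I j)
  map {i j} a := pullback.map _ _ _ _ (D.map a) (qmap R ρ hρ I a) ((R.rightOp ⋙ Scheme.Spec).map a)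
    (φ.naturality a).symm (qmap_q R ρ hρ I a).symm
  map_id i := by
    rw [← cancel_mono (pullback.fst (φ.app i) (q R ρ I i))]
    simp
  map_comp {i j k} a b := by
    rw [← cancel_mono (pullback.fst (φ.app k) (q R ρ I k))]
    simp

theorem map_fst {i j : J} (a : i ⟶ j) :
    (diag R φ ρ hρ I).map a ≫ pullback.fst (φ.app j) (q R ρ I j) = pullback.fst (φ.app i) (q R ρ I i) ≫ D.map a :=
  pullback.lift_fst _ _ _

theorem isAffineHom_map {i j : J} (a : i ⟶ j) [IsAffineHom (D.map a)] : IsAffineHom ((diag R φ ρ hρ I).map a) := by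
  haveI : IsClosedImmersion (pullback.fst (φ.app i) (q R ρ I i)) :=
    MorphismProperty.pullback_fst (P := @IsClosedImmersion) _ _ inferInstance
  haveI : IsClosedImmersion (pullback.fst (φ.app j) (q R ρ I j)) :=
    MorphismProperty.pullback_fst (P := @IsClosedImmersion) _ _ inferInstance
  haveI : IsAffineHom ((diag R φ ρ hρ I).map a ≫ pullback.fst (φ.app j) (q R ρ I j)) := by
    rw [map_fst]; infer_instance
  exact IsAffineHom.of_comp ((diag R φ ρ hρ I).map a) (pullback.fst (φ.app j) (q R ρ I j))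

theorem compactSpace_obj (j : J) [CompactSpace (D.obj j)] : CompactSpace ((diag R φ ρ hρ I).obj j) :=
  haveI : IsClosedImmersion (pullback.fst (φ.app j) (q R ρ I j)) :=
    MorphismProperty.pullback_fst (P := @IsClosedImmersion) _ _ inferInstance
  QuasiCompact.compactSpace_of_compactSpace (pullback.fst (φ.app j) (q R ρ I j))

theorem quasiSeparatedSpace_obj (j : J) [QuasiSeparatedSpace (D.obj j)] :
    QuasiSeparatedSpace ((diag R φ ρ hρ I).obj j) :=
  haveI : IsClosedImmersion (pullback.fst (φ.app j) (q R ρ I j)) :=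
    MorphismProperty.pullback_fst (P := @IsClosedImmersion) _ _ inferInstance
  quasiSeparatedSpace_of_quasiSeparated (pullback.fst (φ.app j) (q R ρ I j))

variable {c : Cone D} (f : c.pt ⟶ Spec (CommRingCat.of A)) (hcomp : ∀ j, c.π.app j ≫ φ.app j = f ≫ Spec.map (ρ j))

/-- The closed immersion into the base. -/
abbrev σ : Spec (CommRingCat.of (A ⧸ I)) ⟶ Spec (CommRingCat.of A) := Spec.map (CommRingCat.ofHom (Ideal.Quotient.mk I))

/-- The map on quotients. -/
abbrev qproj (j : J) : Spec (CommRingCat.of (A ⧸ I)) ⟶ Spec (CommRingCat.of (R.obj (op j) ⧸ K R ρ I j)) :=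
  Spec.map (CommRingCat.ofHom (Ideal.quotientMap I (ρ j).hom le_rfl))

theorem σ_ρ (j : J) : σ I ≫ Spec.map (ρ j) = qproj R ρ I j ≫ q R ρ I j := by
  show Spec.map _ ≫ Spec.map _ = Spec.map _ ≫ Spec.map _
  rw [← Spec.map_comp, ← Spec.map_comp]
  rfl

/-- The projection to a stage. -/
def proj (j : J) : pullback f (σ I) ⟶ (diag R φ ρ hρ I).obj j :=
  pullback.lift (pullback.fst _ _ ≫ c.π.app j) (pullback.snd _ _ ≫ qproj R ρ I j) (by
    rw [Category.assoc, hcomp, pullback.condition_assoc, Category.assoc, σ_ρ])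

/-- The cone of closed parts. -/
def cone : Cone (diag R φ ρ hρ I) where
  pt := pullback f (σ I)
  π :=
    { app := proj R φ ρ hρ I f hcomp
      naturality := fun i j a => by
        refine (Category.id_comp _).trans ?_
        haveI : IsClosedImmersion (pullback.fst (φ.app j) (q R ρ I j)) :=
          MorphismProperty.pullback_fst (P := @IsClosedImmersion) _ _ inferInstance
        rw [← cancel_mono (pullback.fst (φ.app j) (q R ρ I j)), Category.assoc, map_fst]
        simp [proj] }

variable (hsurj : ∀ a : A, ∃ j r, ρ j r = a) (hc : IsLimit c)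

/-- The cone on `D` underlying a cone on the closed parts. -/
def below (s : Cone (diag R φ ρ hρ I)) : Cone D where
  pt := s.pt
  π :=
    { app := fun j => s.π.app j ≫ pullback.fst (φ.app j) (q R ρ I j)
      naturality := fun i j a => by
        refine (Category.id_comp _).trans ?_
        rw [Category.assoc, ← map_fst R φ ρ hρ I a, ← Category.assoc, s.w a] }

include hsurj hcomp in
theorem vanish (s : Cone (diag R φ ρ hρ I)) (a : A) (ha : a ∈ I) :
    adj (hc.lift (below R φ ρ hρ I s) ≫ f) a = 0 := by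
  obtain ⟨j, r, rfl⟩ := hsurj a
  refine adj_eq_zero (ρ j) (K R ρ I j) (s.π.app j ≫ pullback.snd (φ.app j) (q R ρ I j)) ?_ r ha
  show (hc.lift (below R φ ρ hρ I s) ≫ f) ≫ Spec.map (ρ j) = _ ≫ q R ρ I j
  rw [Category.assoc, ← hcomp j, IsLimit.fac_assoc]
  show (s.π.app j ≫ pullback.fst _ _) ≫ _ = _
  rw [Category.assoc, pullback.condition, Category.assoc]

/-- The lift of a cone to the closed part of the limit. -/
def liftClosed (s : Cone (diag R φ ρ hρ I)) : s.pt ⟶ pullback f (σ I) :=
  pullback.lift (hc.lift (below R φ ρ hρ I s))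
    (Scheme.toSpecΓ s.pt ≫ Spec.map (CommRingCat.ofHom (Ideal.Quotient.lift I
      (adj (hc.lift (below R φ ρ hρ I s) ≫ f))
      (vanish R φ ρ hρ I f hcomp hsurj hc s)))) (by
    rw [Category.assoc, ← Spec.map_comp]
    exact eq_toSpec_adj (hc.lift (below R φ ρ hρ I s) ≫ f))

/-- The closed parts form a limit cone. -/
def isLimitCone : IsLimit (cone R φ ρ hρ I f hcomp) where
  lift s := liftClosed R φ ρ hρ I f hcomp hsurj hc s
  fac s j := by
    haveI : IsClosedImmersion (pullback.fst (φ.app j) (q R ρ I j)) :=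
      MorphismProperty.pullback_fst (P := @IsClosedImmersion) _ _ inferInstance
    rw [← cancel_mono (pullback.fst (φ.app j) (q R ρ I j))]
    show (liftClosed R φ ρ hρ I f hcomp hsurj hc s ≫ proj R φ ρ hρ I f hcomp j) ≫ _ = _
    rw [Category.assoc, proj, pullback.lift_fst, ← Category.assoc, liftClosed, pullback.lift_fst, IsLimit.fac]
    rfl
  uniq s m hm := by
    haveI : IsClosedImmersion (σ I) := IsClosedImmersion.spec_of_surjective _ Ideal.Quotient.mk_surjective
    haveI : IsClosedImmersion (pullback.fst f (σ I)) :=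
      MorphismProperty.pullback_fst (P := @IsClosedImmersion) _ _ inferInstance
    rw [← cancel_mono (pullback.fst f (σ I)), liftClosed, pullback.lift_fst]
    refine hc.hom_ext fun j => ?_
    rw [IsLimit.fac, Category.assoc]
    show _ = s.π.app j ≫ pullback.fst _ _
    rw [← hm j, Category.assoc]
    exact congrArg (m ≫ ·) (pullback.lift_fst _ _ _).symm

end Groth.Agent.Pi1Hens.ClosedLimit
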