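import Groth.Agent.Pi1X.FEtFull
import Groth.Agent.EtH0Lib.Components

/-!
# Full faithfulness of restriction to the closed part of a proper scheme over a henselian pair
-/

set_option autoImplicit false
set_option linter.style.haveILetI false
set_option backward.isDefEq.respectTransparency false

universe u

open CategoryTheory CategoryTheory.Limits AlgebraicGeometry Topology

namespace Groth.Agent.Pi1Hens

open Groth.Agent

variable {A : Type u} [CommRing A] {I : Ideal A}

/-- A nonempty closed subset of a scheme closed over the base meets the closed part. -/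
theorem inter_Zof_nonempty (hI : I ≤ Ideal.jacobson ⊥) {X : Scheme.{u}} (f : X ⟶ Spec (CommRingCat.of A))
    (hf : IsClosedMap f) {C : Set X} (hC : IsClosed C) (hne : C.Nonempty) :
    (C ∩ EtH0Lib.Zof f I).Nonempty := by
  obtain ⟨x, hx⟩ := hne
  obtain ⟨y, hy, hyx⟩ := EtH0Lib.nonempty_inter_closure hI f hf x
  exact ⟨y, hC.closure_subset_iff.2 (Set.singleton_subset_iff.2 hx) hyx, hy⟩

variable [HenselianRing A I]

/-- Clopen subsets of the closed part extend. -/
theorem exists_clopen_extension {Y Y₀ : Scheme.{u}} (g : Y ⟶ Spec (CommRingCat.of A)) [IsProper g]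
    (j : Y₀ ⟶ Y) [IsClosedImmersion j] (hr : Set.range j = EtH0Lib.Zof g I) {C : Set Y₀} (hC : IsClopen C) :
    ∃ G : Set Y, IsClopen G ∧ j ⁻¹' G = C := by
  haveI : CompactSpace Y := QuasiCompact.compactSpace_of_compactSpace g
  haveI : QuasiSeparatedSpace Y := quasiSeparatedSpace_of_quasiSeparated g
  haveI : SpectralSpace Y := {}
  have hj := j.isClosedEmbedding
  obtain ⟨X₁, X₂, h₁, h₂, hd, hu, e₁, -⟩ := EtFound.SpectralPiZero.exists_lift_decomposition (Set.range j)
    (fun y => by rw [hr]; exact EtH0Lib.isConnected_inter_closure_proper I g y)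
    (j '' C) (j '' Cᶜ) (hj.isClosedMap _ hC.isClosed) (hj.isClosedMap _ hC.compl.isClosed)
    ((Set.disjoint_image_iff hj.injective).2 disjoint_compl_right)
    (by rw [← Set.image_union, Set.union_compl_self, Set.image_univ])
  refine ⟨X₁, ⟨h₁, ?_⟩, ?_⟩
  · have : X₁ = X₂ᶜ := Set.Subset.antisymm (fun x hx => Set.disjoint_left.1 hd hx)
      fun x hx => (hu.ge (Set.mem_univ x)).resolve_right hx
    rw [this]; exact h₂.isOpen_compl
  · ext z
    constructor
    · intro hz
      obtain ⟨w, hw, hwz⟩ := e₁.ge ⟨⟨z, rfl⟩, hz⟩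
      exact hj.injective hwz ▸ hw
    · exact fun hz => (e₁.subset ⟨z, hz, rfl⟩).2

/-- Restriction to the closed part of a proper scheme over a henselian pair is fully faithful. -/
theorem restrict_full_faithful {X X₀ : Scheme.{u}} (f : X ⟶ Spec (CommRingCat.of A)) [IsProper f]
    (i : X₀ ⟶ X) [IsClosedImmersion i] (hr : Set.range i = EtH0Lib.Zof f I) :
    (FEt.restrict i).Full ∧ (FEt.restrict i).Faithful := by
  have h : ∀ C : Set X, IsClopen C → C.Nonempty → (C ∩ Set.range i.base).Nonempty := fun C hC hne => by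
    show (C ∩ Set.range i).Nonempty
    rw [hr]
    exact inter_Zof_nonempty HenselianRing.jac f f.isClosedMap hC.isClosed hne
  refine ⟨Pi1X.restrict_full i h fun W C hC => ?_, Pi1X.restrict_faithful i h⟩
  haveI : IsFinite W.hom := W.prop.1
  haveI : IsClosedImmersion (pullback.fst W.hom i) :=
    MorphismProperty.pullback_fst (P := @IsClosedImmersion) W.hom i inferInstance
  refine exists_clopen_extension (I := I) (W.hom ≫ f) (pullback.fst W.hom i) ?_ hC
  rw [Scheme.Pullback.range_fst]
  show W.hom ⁻¹' Set.range i.base = _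
  rw [hr]
  ext z
  simp only [EtH0Lib.Zof, Set.mem_preimage, Scheme.Hom.comp_apply]
  exact Iff.rfl

end Groth.Agent.Pi1Hens
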