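import Groth.Agent.Pi1Hens.Artin
import Groth.Agent.Pi1Hens.ClosedLimit
import Groth.Agent.Pi1Hens.FF
import Groth.Agent.S2147
import Groth.Agent.S2051
import Groth.Agent.S0599
import Groth.Agent.S9276
import Groth.Agent.PopescuLib.HenzColim

/-!
# Restriction to the closed part of a proper scheme over a henselian pair is an equivalence
-/

set_option autoImplicit false
set_option linter.style.haveILetI false
set_option backward.isDefEq.respectTransparency false
set_option backward.isDefEq.respectTransparency.types false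
set_option maxHeartbeats 1000000

universe u

open CategoryTheory CategoryTheory.Limits AlgebraicGeometry Opposite

noncomputable section

namespace Groth.Agent.Pi1Hens

open Groth.Agent

/-- Lifting of covers of the closed part, for a limit over G-rings. -/
theorem exists_lift_lim {A : Type u} [CommRing A] (I : Ideal A) [HenselianRing A I]
    {J : Type u} [SmallCategory J] [IsCofiltered J] {D : J ⥤ Scheme.{u}} (R : Jᵒᵖ ⥤ CommRingCat.{u})
    (φ : D ⟶ R.rightOp ⋙ Scheme.Spec) (ρ : ∀ j, R.obj (op j) ⟶ CommRingCat.of A)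
    (hρ : ∀ {i j : J} (a : i ⟶ j), R.map a.op ≫ ρ i = ρ j)
    [∀ i j (a : i ⟶ j), IsAffineHom (D.map a)] [∀ j, IsProper (φ.app j)]
    (hG : ∀ j, CAlg.IsGRing (R.obj (op j))) (hsurj : ∀ a : A, ∃ j r, ρ j r = a)
    {c : Cone D} (hc : IsLimit c) (f : c.pt ⟶ Spec (CommRingCat.of A))
    (hcomp : ∀ j, c.π.app j ≫ φ.app j = f ≫ Spec.map (ρ j))
    (V₀ : FEt.Cat (pullback f (Spec.map (CommRingCat.ofHom (Ideal.Quotient.mk I))))) :
    ∃ V : FEt.Cat c.pt,
      Nonempty ((FEt.restrict (pullback.fst f (Spec.map (CommRingCat.ofHom (Ideal.Quotient.mk I))))).obj V ≅ V₀) := by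
  haveI : ∀ j, IsProper (φ.app j) := inferInstance
  haveI : ∀ j, CompactSpace (D.obj j) := fun j => QuasiCompact.compactSpace_of_compactSpace (Y := Spec (R.obj (op j))) (φ.app j)
  haveI : ∀ j, QuasiSeparatedSpace (D.obj j) := fun j => quasiSeparatedSpace_of_quasiSeparated (Y := Spec (R.obj (op j))) (φ.app j)
  haveI : ∀ i, CompactSpace ((ClosedLimit.diag R φ ρ hρ I).obj i) := fun i => ClosedLimit.compactSpace_obj R φ ρ hρ I i
  haveI : ∀ i, QuasiSeparatedSpace ((ClosedLimit.diag R φ ρ hρ I).obj i) := fun i =>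
    ClosedLimit.quasiSeparatedSpace_obj R φ ρ hρ I i
  haveI : ∀ (i j : J) (a : i ⟶ j), IsAffineHom ((ClosedLimit.diag R φ ρ hρ I).map a) :=
    fun _ _ a => ClosedLimit.isAffineHom_map R φ ρ hρ I a
  obtain ⟨j, W, ⟨u⟩⟩ := (S12073.result (ClosedLimit.diag R φ ρ hρ I) (ClosedLimit.cone R φ ρ hρ I f hcomp)
    (ClosedLimit.isLimitCone R φ ρ hρ I f hcomp hsurj hc)).1 V₀
  let Rj : Type u := R.obj (op j)
  let K : Ideal Rj := ClosedLimit.K R ρ I j
  obtain ⟨Rh, _, _, hRh⟩ := S2051.result Rj K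
  have hGh : CAlg.IsGRing Rh := S9276.result Rj (hG j) K Rh hRh
  obtain ⟨hhen, huniv⟩ := hRh
  obtain ⟨α, hα, -⟩ := huniv A I (ρ j).hom inferInstance Ideal.map_comap_le
  let η : Rj →+* Rh := algebraMap Rj Rh
  haveI : HenselianRing Rh (K.map η) := hhen
  let φj : D.obj j ⟶ Spec (CommRingCat.of Rj) := φ.app j
  haveI : IsProper φj := inferInstanceAs (IsProper (φ.app j))
  let qh : Spec (CommRingCat.of Rh) ⟶ Spec (CommRingCat.of Rj) := Spec.map (CommRingCat.ofHom η)
  let fh := pullback.snd φj qh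
  haveI : IsProper fh := MorphismProperty.pullback_snd (P := @IsProper) φj qh inferInstance
  let σh : Spec (CommRingCat.of (Rh ⧸ K.map η)) ⟶ Spec (CommRingCat.of Rh) :=
    Spec.map (CommRingCat.ofHom (Ideal.Quotient.mk (K.map η)))
  let σ : Spec (CommRingCat.of (A ⧸ I)) ⟶ Spec (CommRingCat.of A) := Spec.map (CommRingCat.ofHom (Ideal.Quotient.mk I))
  let qj : Spec (CommRingCat.of (Rj ⧸ K)) ⟶ Spec (CommRingCat.of Rj) := Spec.map (CommRingCat.ofHom (Ideal.Quotient.mk K))
  -- the closed part of the henselization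
  have h1 : (pullback.fst fh σh ≫ pullback.fst φj qh) ≫ φj =
      (pullback.snd fh σh ≫ Spec.map (CommRingCat.ofHom (Ideal.quotientMap (K.map η) η Ideal.le_comap_map))) ≫ qj := by
    rw [Category.assoc, pullback.condition, pullback.condition_assoc, Category.assoc]
    refine congrArg (pullback.snd fh σh ≫ ·) ?_
    simp only [σh, qh, qj, ← Spec.map_comp]
    rfl
  let m : pullback fh σh ⟶ (ClosedLimit.diag R φ ρ hρ I).obj j := pullback.lift _ _ h1
  obtain ⟨Vh, ⟨w⟩⟩ := exists_lift_gring (K.map η) hGh fh ((FEt.restrict m).obj W)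
  -- pull back to the limit
  have hl : c.π.app j ≫ φj = (f ≫ Spec.map (CommRingCat.ofHom α)) ≫ qh := by
    rw [Category.assoc]
    show _ = f ≫ Spec.map _ ≫ Spec.map _
    rw [← Spec.map_comp, ← CommRingCat.ofHom_comp, hα]
    exact hcomp j
  let l : c.pt ⟶ pullback φj qh := pullback.lift _ _ hl
  refine ⟨(FEt.restrict l).obj Vh, ?_⟩
  have hle : K.map η ≤ I.comap α := by
    rw [Ideal.map_le_iff_le_comap, Ideal.comap_comap]
    exact le_of_eq (congrArg (fun β => I.comap β) hα).symm
  have h2 : (pullback.fst f σ ≫ l) ≫ fh =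
      (pullback.snd f σ ≫ Spec.map (CommRingCat.ofHom (Ideal.quotientMap I α hle))) ≫ σh := by
    rw [Category.assoc, show l ≫ fh = _ from pullback.lift_snd _ _ _, pullback.condition_assoc, Category.assoc]
    refine congrArg (pullback.snd f σ ≫ ·) ?_
    simp only [σ, σh, ← Spec.map_comp]
    rfl
  let n : pullback f σ ⟶ pullback fh σh := pullback.lift _ _ h2
  haveI : IsClosedImmersion (pullback.fst (φ.app j) (ClosedLimit.q R ρ I j)) :=
    MorphismProperty.pullback_fst (P := @IsClosedImmersion) _ _ inferInstance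
  have hnm : n ≫ m = (ClosedLimit.cone R φ ρ hρ I f hcomp).π.app j := by
    rw [← cancel_mono (pullback.fst (φ.app j) (ClosedLimit.q R ρ I j)), Category.assoc]
    show n ≫ m ≫ _ = ClosedLimit.proj R φ ρ hρ I f hcomp j ≫ _
    refine Eq.trans ?_ (pullback.lift_fst _ _ _).symm
    refine (congrArg (n ≫ ·) (pullback.lift_fst _ _ _)).trans ?_
    refine (Category.assoc _ _ _).symm.trans ((congrArg (· ≫ pullback.fst φj qh) (pullback.lift_fst _ _ _)).trans ?_)
    exact (Category.assoc _ _ _).trans (congrArg (pullback.fst f σ ≫ ·) (pullback.lift_fst _ _ _))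
  exact ⟨((restrictCompIso (pullback.fst f σ) l _ rfl).app Vh).symm ≪≫
    (restrictCompIso n (pullback.fst fh σh) _ (pullback.lift_fst _ _ _)).app Vh ≪≫
    (FEt.restrict n).mapIso w ≪≫ ((restrictCompIso n m _ hnm).app W).symm ≪≫ u⟩

theorem essSurj_of_exists {C D : Type*} [Category C] [Category D] (F : C ⥤ D)
    (h : ∀ Y : D, ∃ V : C, Nonempty (F.obj V ≅ Y)) : F.EssSurj where
  mem_essImage Y := h Y

theorem isGRing_of_locallyOfFiniteType {S : Scheme.{u}} [IsAffine S] (g : S ⟶ Spec (CommRingCat.of (ULift.{u} ℤ)))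
    [LocallyOfFiniteType g] : CAlg.IsGRing Γ(S, ⊤) := by
  have h := (HasRingHomProperty.iff_of_isAffine (P := @LocallyOfFiniteType) (f := g)).1 inferInstance
  let e : ULift.{u} ℤ →+* Γ(S, ⊤) :=
    g.appTop.hom.comp (Scheme.ΓSpecIso (CommRingCat.of (ULift.{u} ℤ))).inv.hom
  have he : e.FiniteType := RingHom.FiniteType.comp h (RingHom.FiniteType.of_surjective _
    (Scheme.ΓSpecIso (CommRingCat.of (ULift.{u} ℤ))).commRingCatIsoToRingEquiv.symm.surjective)
  letI : Algebra (ULift.{u} ℤ) Γ(S, ⊤) := e.toAlgebra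
  haveI : Algebra.FiniteType (ULift.{u} ℤ) Γ(S, ⊤) := he
  exact S0599.result _ PopescuLib.isGRing_uliftInt _

/-- Over a henselian pair every finite etale cover of the closed part of a proper scheme lifts. -/
theorem exists_lift {A : Type u} [CommRing A] (I : Ideal A) [HenselianRing A I] {X : Scheme.{u}}
    (f : X ⟶ Spec (CommRingCat.of A)) [IsProper f]
    (V₀ : FEt.Cat (pullback f (Spec.map (CommRingCat.ofHom (Ideal.Quotient.mk I))))) :
    ∃ V : FEt.Cat X,
      Nonempty ((FEt.restrict (pullback.fst f (Spec.map (CommRingCat.ofHom (Ideal.Quotient.mk I))))).obj V ≅ V₀) := by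
  obtain ⟨J, _, _, DX, DS, φ, cX, cS, hX, hS, eX, eS, haff, hprop, hcomp⟩ := S2147.result f
  haveI : ∀ {i j : J} (a : i ⟶ j), IsAffineHom (DS.map a) := fun a => (haff _ _ a).2
  haveI : ∀ i, CompactSpace (DS.obj i) := fun i => (hprop i).2.1
  haveI : IsNoetherianRing (ULift.{u} ℤ) := isNoetherianRing_of_ringEquiv ℤ ULift.ringEquiv.symm
  haveI : ∀ i, IsLocallyNoetherian (DS.obj i) := fun i =>
    haveI := (hprop i).2.2
    LocallyOfFiniteType.isLocallyNoetherian (specULiftZIsTerminal.from (DS.obj i))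
  haveI : IsAffine cS.pt := .of_isIso eS.hom
  obtain ⟨i₀, hi₀⟩ := Scheme.exists_isAffine_of_isLimit DS cS hS
  let D' : Over i₀ ⥤ Scheme.{u} := Over.forget i₀ ⋙ DX
  let S' : Over i₀ ⥤ Scheme.{u} := Over.forget i₀ ⋙ DS
  haveI hS' : ∀ i : Over i₀, IsAffine (S'.obj i) := fun i =>
    @isAffine_of_isAffineHom _ _ (DS.map i.hom) (haff _ _ i.hom).2 hi₀
  haveI : ∀ (i j : Over i₀) (a : i ⟶ j), IsAffineHom (D'.map a) := fun _ _ a => (haff _ _ a.left).1
  haveI : ∀ {i j : Over i₀} (a : i ⟶ j), IsAffineHom (S'.map a) := fun a => (haff _ _ a.left).2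
  let R : (Over i₀)ᵒᵖ ⥤ CommRingCat.{u} := S'.op ⋙ Scheme.Γ
  let φ' : D' ⟶ R.rightOp ⋙ Scheme.Spec :=
    { app := fun i => φ.app i.left ≫ (S'.obj i).toSpecΓ
      naturality := fun i j a => by
        show DX.map a.left ≫ φ.app j.left ≫ _ = (φ.app i.left ≫ _) ≫ Spec.map (S'.map a).appTop
        rw [← Category.assoc, φ.naturality, Category.assoc, Category.assoc]
        exact congrArg (φ.app i.left ≫ ·) (Scheme.toSpecΓ_naturality (S'.map a)) }
  haveI : ∀ i, IsProper (φ'.app i) := fun i => by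
    haveI := (hprop i.left).1
    haveI : IsIso (S'.obj i).toSpecΓ := @IsAffine.affine _ (hS' i)
    exact MorphismProperty.comp_mem (W := @IsProper) (φ.app i.left : _ ⟶ S'.obj i) (S'.obj i).toSpecΓ (hprop i.left).1 inferInstance
  let cS' := (cS.extend eS.inv).whisker (Over.forget i₀)
  let hcS' : IsLimit cS' :=
    (Functor.Initial.isLimitWhiskerEquiv (Over.forget i₀) (cS.extend eS.inv)).symm (hS.extendIso eS.inv)
  let c := (cX.extend eX.inv).whisker (Over.forget i₀)
  let hc : IsLimit c :=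
    (Functor.Initial.isLimitWhiskerEquiv (Over.forget i₀) (cX.extend eX.inv)).symm (hX.extendIso eX.inv)
  let b : ∀ i : Over i₀, Spec (CommRingCat.of A) ⟶ S'.obj i := fun i => cS'.π.app i
  let ρ : ∀ i : Over i₀, R.obj (op i) ⟶ CommRingCat.of A := fun i =>
    (b i).appTop ≫ (Scheme.ΓSpecIso (CommRingCat.of A)).hom
  refine exists_lift_lim I R φ' ρ (fun {i j} a => ?_) (fun i => ?_) (fun x => ?_) hc f (fun i => ?_) V₀
  · show (S'.map a).appTop ≫ (b i).appTop ≫ _ = (b j).appTop ≫ _
    rw [← Category.assoc, ← Scheme.Hom.comp_appTop, show b i ≫ S'.map a = b j from cS'.w a]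
  · haveI := (hprop i.left).2.2
    haveI : LocallyOfFiniteType (Limits.IsTerminal.from specULiftZIsTerminal (S'.obj i)) := this
    exact @isGRing_of_locallyOfFiniteType (S'.obj i) (hS' i) (Limits.IsTerminal.from specULiftZIsTerminal (S'.obj i)) this
  · haveI : ∀ i, CompactSpace (S'.obj i) := fun i => inferInstanceAs (CompactSpace (DS.obj i.left))
    haveI : ∀ i, QuasiSeparatedSpace (S'.obj i) := fun i => inferInstance
    obtain ⟨i, r, hr⟩ := exists_appTop_π_eq_of_isLimit S' cS' hcS' ((Scheme.ΓSpecIso (CommRingCat.of A)).inv x)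
    refine ⟨i, r, ?_⟩
    show (Scheme.ΓSpecIso (CommRingCat.of A)).hom ((cS'.π.app i).appTop r) = x
    refine (congrArg (Scheme.ΓSpecIso (CommRingCat.of A)).hom hr.symm).trans ?_
    exact ConcreteCategory.congr_hom (Scheme.ΓSpecIso (CommRingCat.of A)).inv_hom_id x
  · show (eX.inv ≫ cX.π.app i.left) ≫ φ.app i.left ≫ _ = f ≫ Spec.map ((b i).appTop ≫ _)
    rw [Category.assoc, ← Category.assoc (cX.π.app i.left), hcomp, Spec.map_comp, SpecMap_ΓSpecIso_hom,
      ← Scheme.toSpecΓ_naturality]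
    simp only [Category.assoc, Iso.inv_hom_id_assoc]
    rfl

/-- Restriction of finite etale covers to the closed part of a proper scheme over a henselian pair is an
equivalence. -/
theorem restrict_isEquivalence {A : Type u} [CommRing A] (I : Ideal A) [HenselianRing A I] {X : Scheme.{u}}
    (f : X ⟶ Spec (CommRingCat.of A)) [IsProper f] :
    (FEt.restrict (pullback.fst f (Spec.map (CommRingCat.ofHom (Ideal.Quotient.mk I))))).IsEquivalence := by
  haveI : IsClosedImmersion (Spec.map (CommRingCat.ofHom (Ideal.Quotient.mk I))) :=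
    IsClosedImmersion.spec_of_surjective _ Ideal.Quotient.mk_surjective
  haveI : IsClosedImmersion (pullback.fst f (Spec.map (CommRingCat.ofHom (Ideal.Quotient.mk I)))) :=
    MorphismProperty.pullback_fst (P := @IsClosedImmersion) _ _ inferInstance
  have hess := exists_lift I f
  have hr := EtH0Lib.range_fst_mk' I f
  generalize pullback.fst f (Spec.map (CommRingCat.ofHom (Ideal.Quotient.mk I))) = i at *
  obtain ⟨hf, hfa⟩ := restrict_full_faithful (I := I) f i hr
  haveI := hf; haveI := hfa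
  haveI := essSurj_of_exists _ hess
  exact { }

end Groth.Agent.Pi1Hens
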