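import Mathlib.AlgebraicGeometry.AffineTransitionLimit
import Mathlib.CategoryTheory.Limits.Connected

/-!
# Base change of a limit of affine schemes
-/

set_option autoImplicit false
set_option linter.style.haveILetI false
set_option backward.isDefEq.respectTransparency false

universe u

open CategoryTheory CategoryTheory.Limits AlgebraicGeometry

noncomputable section

namespace Groth.Agent.Pi1Hens.BCLimit

variable {X S : Scheme.{u}} (f : X ⟶ S) {J : Type u} [Category.{u} J] (D : J ⥤ Scheme.{u})
  (σ : D ⟶ (Functor.const J).obj S)

/-- The diagram of base changes. -/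
def diag : J ⥤ Scheme.{u} where
  obj j := pullback f (σ.app j)
  map {i j} a := pullback.lift (pullback.fst _ _) (pullback.snd _ _ ≫ D.map a) (by
    rw [Category.assoc, σ.naturality a]
    exact pullback.condition.trans (congrArg (_ ≫ ·) (Category.comp_id _).symm))
  map_id i := by apply pullback.hom_ext <;> simp
  map_comp {i j k} a b := by apply pullback.hom_ext <;> simp

/-- Projection to the base diagram. -/
def toBase : diag f D σ ⟶ D where
  app j := pullback.snd f (σ.app j)
  naturality _ _ _ := pullback.lift_snd _ _ _

variable {T : Scheme.{u}} (c : (Functor.const J).obj T ⟶ D) (τ : T ⟶ S) (hτ : ∀ j, c.app j ≫ σ.app j = τ)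

/-- The projections. -/
def proj (j : J) : pullback f τ ⟶ pullback f (σ.app j) :=
  pullback.lift (pullback.fst _ _) (pullback.snd _ _ ≫ c.app j)
    (by rw [Category.assoc, hτ]; exact pullback.condition)

/-- The cone of base changes. -/
def cone : Cone (diag f D σ) where
  pt := pullback f τ
  π :=
    { app := proj f D σ c τ hτ
      naturality := fun i j a => by
        refine (Category.id_comp _).trans (pullback.hom_ext ?_ ?_)
        · simp [proj, diag]
        · have h := (Cone.mk T c).w a
          dsimp at h
          simp [proj, diag, h] }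

theorem isPullback_proj (j : J) :
    IsPullback (proj f D σ c τ hτ j) (pullback.snd f τ) (pullback.snd f (σ.app j)) (c.app j) := by
  refine IsPullback.of_right ?_ (pullback.lift_snd _ _ _) (IsPullback.of_hasPullback f (σ.app j))
  rw [show proj f D σ c τ hτ j ≫ pullback.fst f (σ.app j) = pullback.fst f τ from pullback.lift_fst _ _ _, hτ]
  exact IsPullback.of_hasPullback f τ

attribute [local instance] IsCofiltered.isConnected in
/-- It is a limit. -/
def isLimitCone [IsCofiltered J] (h : IsLimit (Cone.mk T c)) : IsLimit (cone f D σ c τ hτ) :=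
  isLimitOfIsPullbackOfIsConnected (toBase f D σ) _ (Cone.mk T c)
    { hom := pullback.snd f τ, w := fun _ => (pullback.lift_snd _ _ _).symm }
    (fun j => isPullback_proj f D σ c τ hτ j) h

theorem isAffineHom_map [IsSeparated f] [∀ j, IsAffine (D.obj j)] [IsAffine S] {i j : J} (a : i ⟶ j) :
    IsAffineHom ((diag f D σ).map a) := by
  have hfst : ∀ j, IsAffineHom (pullback.fst f (σ.app j)) := fun j =>
    MorphismProperty.pullback_fst (P := @IsAffineHom) _ _ (@isAffineHom_of_isAffine _ _ (σ.app j) _ (inferInstanceAs (IsAffine S)))
  haveI := hfst j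
  haveI : IsAffineHom ((diag f D σ).map a ≫ pullback.fst f (σ.app j)) := by
    rw [show (diag f D σ).map a ≫ pullback.fst f (σ.app j) = pullback.fst f (σ.app i) from pullback.lift_fst _ _ _]
    exact hfst i
  exact IsAffineHom.of_comp ((diag f D σ).map a) (pullback.fst f (σ.app j))

theorem compactSpace_obj [QuasiCompact f] [∀ j, IsAffine (D.obj j)] (j : J) :
    CompactSpace ((diag f D σ).obj j) :=
  QuasiCompact.compactSpace_of_compactSpace (pullback.snd f (σ.app j))

theorem quasiSeparatedSpace_obj [IsSeparated f] [∀ j, IsAffine (D.obj j)] (j : J) :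
    QuasiSeparatedSpace ((diag f D σ).obj j) :=
  quasiSeparatedSpace_of_quasiSeparated (pullback.snd f (σ.app j))

end Groth.Agent.Pi1Hens.BCLimit
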