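import Groth.Agent.Pi1Hens.Complete
import Groth.Agent.Pi1Hens.BCLimit
import Groth.Agent.S12073
import Groth.Agent.S14050
import Groth.Agent.Adic7.Lift

/-!
# Essential surjectivity over a henselian G-ring pair, by approximation
-/

set_option autoImplicit false
set_option linter.style.haveILetI false
set_option backward.isDefEq.respectTransparency false
set_option backward.isDefEq.respectTransparency.types false
set_option maxHeartbeats 1000000

universe u

open CategoryTheory CategoryTheory.Limits AlgebraicGeometry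

noncomputable section

namespace Groth.Agent.Pi1Hens

open Groth.Agent

/-- Restriction along the identity. -/
def restrictIdObj {X : Scheme.{u}} (V : FEt.Cat X) : (FEt.restrict (𝟙 X)).obj V ≅ V :=
  MorphismProperty.Over.isoMk (asIso (pullback.fst V.hom (𝟙 X)))
    ((pullback.condition (f := V.hom) (g := 𝟙 X)).trans (Category.comp_id _))

theorem isFinitelyPresented_point {A P : Type u} [CommRing A] [CommRing P] [Algebra A P]
    [Algebra.FinitePresentation A P] [IsNoetherianRing A] (I : Ideal A) [HenselianRing A I]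
    (hG : CAlg.IsGRing A) (φ : P →ₐ[A] AdicCompletion I A) (c : ℕ) :
    ∃ b : P →ₐ[A] A, ∀ y, AdicCompletion.evalₐ I c (φ y) = Ideal.Quotient.mk (I ^ c) (b y) := by
  haveI := PopescuLib.noetherian_completion I
  obtain ⟨k, θ, hθ, hker⟩ := Algebra.FinitePresentation.out (R := A) (A := P)
  obtain ⟨l, r, hr⟩ := Submodule.fg_iff_exists_fin_generating_family.1 hker
  have hzero : ∀ i, MvPolynomial.aeval (fun j => φ (θ (MvPolynomial.X j))) (r i) = 0 := fun i => by
    have h1 : θ (r i) = 0 := by
      have : r i ∈ RingHom.ker θ.toRingHom := hr ▸ Submodule.subset_span ⟨i, rfl⟩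
      exact this
    show MvPolynomial.aeval ((φ.comp θ) ∘ MvPolynomial.X) (r i) = 0
    rw [← MvPolynomial.aeval_unique (φ.comp θ), AlgHom.comp_apply, h1, map_zero]
  obtain ⟨a, ha, hfa⟩ := PopescuLib.approx I
    (PopescuLib.isRegularHom_adicCompletion A (fun m _ => hG.2 m) I) r _ hzero c
  let b₀ : MvPolynomial (Fin k) A →ₐ[A] A := MvPolynomial.aeval a
  let b : P →ₐ[A] A := AlgHom.liftOfSurjective θ hθ b₀ (by
    intro y hy
    refine (Ideal.span_le.2 ?_ : Ideal.span (Set.range r) ≤ RingHom.ker b₀) ((SetLike.ext_iff.1 hr y).2 hy)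
    rintro _ ⟨i, rfl⟩
    show MvPolynomial.aeval a (r i) = 0
    exact ha i)
  refine ⟨b, fun y => ?_⟩
  obtain ⟨y, rfl⟩ := hθ y
  rw [show b (θ y) = b₀ y from AlgHom.liftOfSurjective_apply θ hθ _ _ y]
  have h1 : (Algebra.ofId A (A ⧸ I ^ c)).comp b₀ = ((AdicCompletion.evalₐ I c).comp φ).comp θ :=
    MvPolynomial.algHom_ext fun j => by
      simp only [AlgHom.comp_apply, b₀, MvPolynomial.aeval_X, Algebra.ofId_apply]
      exact (hfa j).symm
  exact (AlgHom.congr_fun h1 y).symm

/-- Over a henselian G-ring pair every finite etale cover of the closed part of a proper scheme lifts. -/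
theorem exists_lift_gring {A : Type u} [CommRing A] (I : Ideal A) [HenselianRing A I] (hG : CAlg.IsGRing A)
    {X : Scheme.{u}} (f : X ⟶ Spec (CommRingCat.of A)) [IsProper f]
    (V₀ : FEt.Cat (pullback f (Spec.map (CommRingCat.ofHom (Ideal.Quotient.mk I))))) :
    ∃ V : FEt.Cat X,
      Nonempty ((FEt.restrict (pullback.fst f (Spec.map (CommRingCat.ofHom (Ideal.Quotient.mk I))))).obj V ≅ V₀) := by
  haveI : IsNoetherianRing A := hG.1
  haveI := PopescuLib.noetherian_completion I
  let B := AdicCompletion I A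
  let J : Ideal B := I.map (algebraMap A B)
  haveI : IsAdicComplete J B := Adic7.isAdicComplete_completion I (IsNoetherian.noetherian I)
  let toA : A ⧸ I ^ 1 →+* A ⧸ I := Ideal.Quotient.factor (pow_one I).le
  let q : B →+* A ⧸ I := toA.comp (AdicCompletion.evalₐ I 1).toRingHom
  have hq : q.comp (algebraMap A B) = Ideal.Quotient.mk I := by
    refine RingHom.ext fun a => ?_
    show toA ((AdicCompletion.evalₐ I 1) (algebraMap A B a)) = _
    rw [AlgHom.commutes]
    rfl
  have hqJ : J ≤ RingHom.ker q := Ideal.map_le_iff_le_comap.2 fun a ha => by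
    rw [Ideal.mem_comap, RingHom.mem_ker, ← RingHom.comp_apply, hq, Ideal.Quotient.eq_zero_iff_mem]
    exact ha
  let q' : B ⧸ J →+* A ⧸ I := Ideal.Quotient.lift J q fun a ha => hqJ ha
  let r : A ⧸ I →+* B ⧸ J := Ideal.quotientMap J (algebraMap A B) Ideal.le_comap_map
  have hrq : q'.comp r = RingHom.id _ := Ideal.Quotient.ringHom_ext (by
    refine RingHom.ext fun a => ?_
    show q (algebraMap A B a) = Ideal.Quotient.mk I a
    rw [← RingHom.comp_apply, hq])
  let σ : Spec (CommRingCat.of (A ⧸ I)) ⟶ Spec (CommRingCat.of A) := Spec.map (CommRingCat.ofHom (Ideal.Quotient.mk I))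
  let σB : Spec (CommRingCat.of (B ⧸ J)) ⟶ Spec (CommRingCat.of B) := Spec.map (CommRingCat.ofHom (Ideal.Quotient.mk J))
  let e : Spec (CommRingCat.of B) ⟶ Spec (CommRingCat.of A) := Spec.map (CommRingCat.ofHom (algebraMap A B))
  haveI : IsClosedImmersion σ := IsClosedImmersion.spec_of_surjective _ Ideal.Quotient.mk_surjective
  let fB := pullback.snd f e
  haveI : IsProper fB := MorphismProperty.pullback_snd (P := @IsProper) f e inferInstance
  -- the closed part of the completed scheme
  have hd : (pullback.fst fB σB ≫ pullback.fst f e) ≫ f = (pullback.snd fB σB ≫ Spec.map (CommRingCat.ofHom r)) ≫ σ := by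
    rw [Category.assoc, pullback.condition, pullback.condition_assoc, Category.assoc]
    refine congrArg (pullback.snd fB σB ≫ ·) ?_
    simp only [σ, σB, e, ← Spec.map_comp]
    rfl
  let d : pullback fB σB ⟶ pullback f σ := pullback.lift _ _ hd
  obtain ⟨VB, ⟨wB⟩⟩ := exists_lift_complete' fB ((FEt.restrict d).obj V₀)
  -- descent to a finitely presented algebra
  let D : (PopescuLib.FPModel A B)ᵒᵖ ⥤ Scheme.{u} :=
    (PopescuLib.fpDiagram A B ⋙ CategoryTheory.Under.forget _).op ⋙ Scheme.Spec
  let σD : D ⟶ (Functor.const _).obj (Spec (CommRingCat.of A)) :=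
    { app := fun P => Spec.map (CommRingCat.ofHom (algebraMap A P.unop.Alg))
      naturality := fun P Q a => by
        refine Eq.trans ?_ (Category.comp_id _).symm
        show Spec.map _ ≫ Spec.map _ = Spec.map _
        rw [← Spec.map_comp]
        exact congrArg Spec.map (CommRingCat.hom_ext (RingHom.ext fun x => a.unop.1.commutes x)) }
  haveI : ∀ P, IsAffine (D.obj P) := fun P => inferInstanceAs (IsAffine (Spec _))
  haveI : IsConnected (PopescuLib.FPModel A B) := IsFiltered.isConnected _
  have hc : IsLimit (Scheme.Spec.mapCone ((CategoryTheory.Under.forget _).mapCocone (PopescuLib.fpCocone A B)).op) :=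
    isLimitOfPreserves Scheme.Spec (isColimitOfPreserves (CategoryTheory.Under.forget _) (PopescuLib.fpIsColimit A B)).op
  let c : (Functor.const _).obj (Spec (CommRingCat.of B)) ⟶ D :=
    (Scheme.Spec.mapCone ((CategoryTheory.Under.forget _).mapCocone (PopescuLib.fpCocone A B)).op).π
  have hτ : ∀ P, c.app P ≫ σD.app P = e := fun P => by
    show Spec.map _ ≫ Spec.map _ = Spec.map _
    rw [← Spec.map_comp]
    exact congrArg Spec.map (CommRingCat.hom_ext (RingHom.ext fun x => P.unop.toB.commutes x))
  haveI : ∀ i, CompactSpace ((BCLimit.diag f D σD).obj i) := fun i => BCLimit.compactSpace_obj f D σD i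
  haveI : ∀ i, QuasiSeparatedSpace ((BCLimit.diag f D σD).obj i) := fun i => BCLimit.quasiSeparatedSpace_obj f D σD i
  haveI : ∀ (i j : (PopescuLib.FPModel A B)ᵒᵖ) (a : i ⟶ j), IsAffineHom ((BCLimit.diag f D σD).map a) :=
    fun _ _ a => BCLimit.isAffineHom_map f D σD a
  obtain ⟨P, VP, ⟨u⟩⟩ := (S12073.result (BCLimit.diag f D σD) (BCLimit.cone f D σD c e hτ)
    (BCLimit.isLimitCone f D σD c e hτ hc)).1 VB
  obtain ⟨b, hb⟩ := isFinitelyPresented_point I hG P.unop.toB 1
  let s : X ⟶ pullback f (σD.app P) := pullback.lift (𝟙 X) (f ≫ Spec.map (CommRingCat.ofHom b.toRingHom)) (by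
    rw [Category.id_comp, Category.assoc]
    show f = f ≫ Spec.map _ ≫ Spec.map _
    rw [← Spec.map_comp, ← CommRingCat.ofHom_comp,
      show b.toRingHom.comp (algebraMap A P.unop.Alg) = RingHom.id A from RingHom.ext fun x => b.commutes x]
    exact ((congrArg (f ≫ ·) (Spec.map_id (CommRingCat.of A))).trans (Category.comp_id f)).symm)
  refine ⟨(FEt.restrict s).obj VP, ?_⟩
  -- comparison on the closed part
  have h1 : pullback.fst f σ ≫ f = (pullback.snd f σ ≫ Spec.map (CommRingCat.ofHom q)) ≫ e := by
    rw [pullback.condition, Category.assoc]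
    refine congrArg (pullback.snd f σ ≫ ·) ?_
    simp only [σ, e, ← Spec.map_comp, ← CommRingCat.ofHom_comp, hq]
  let m : pullback f σ ⟶ pullback f e := pullback.lift _ _ h1
  have h2 : m ≫ fB = (pullback.snd f σ ≫ Spec.map (CommRingCat.ofHom q')) ≫ σB := by
    rw [show m ≫ fB = _ from pullback.lift_snd _ _ _, Category.assoc]
    refine congrArg (pullback.snd f σ ≫ ·) ?_
    simp only [σB, ← Spec.map_comp]
    rfl
  let m' : pullback f σ ⟶ pullback fB σB := pullback.lift _ _ h2
  have hm'd : m' ≫ d = 𝟙 _ := by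
    rw [← cancel_mono (pullback.fst f σ), Category.assoc, Category.id_comp]
    show m' ≫ d ≫ pullback.fst f σ = _
    rw [show d ≫ pullback.fst f σ = pullback.fst fB σB ≫ pullback.fst f e from pullback.lift_fst _ _ _,
      ← Category.assoc, show m' ≫ pullback.fst fB σB = m from pullback.lift_fst _ _ _]
    exact pullback.lift_fst _ _ _
  have hcomp : pullback.fst f σ ≫ s = m' ≫ pullback.fst fB σB ≫ (BCLimit.cone f D σD c e hτ).π.app P := by
    rw [← Category.assoc, show m' ≫ pullback.fst fB σB = m from pullback.lift_fst _ _ _]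
    show pullback.fst f σ ≫ s = m ≫ BCLimit.proj f D σD c e hτ P
    refine pullback.hom_ext ?_ ?_
    · simp [s, m, BCLimit.proj]
    · simp only [Category.assoc, s, m, BCLimit.proj, pullback.lift_snd, pullback.lift_snd_assoc]
      rw [← Category.assoc, pullback.condition, Category.assoc]
      refine congrArg (pullback.snd f σ ≫ ·) ?_
      show σ ≫ Spec.map _ = Spec.map _ ≫ Spec.map _
      simp only [σ, ← Spec.map_comp]
      refine congrArg Spec.map (CommRingCat.hom_ext (RingHom.ext fun y => ?_))
      show Ideal.Quotient.mk I (b y) = toA (AdicCompletion.evalₐ I 1 (P.unop.toB y))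
      rw [hb]
      rfl
  exact ⟨((restrictCompIso (pullback.fst f σ) s _ rfl).app VP).symm ≪≫
    (restrictCompIso m' (pullback.fst fB σB ≫ (BCLimit.cone f D σD c e hτ).π.app P) _ hcomp.symm).app VP ≪≫
    (FEt.restrict m').mapIso ((restrictCompIso (pullback.fst fB σB) ((BCLimit.cone f D σD c e hτ).π.app P) _ rfl).app VP ≪≫
      (FEt.restrict (pullback.fst fB σB)).mapIso u ≪≫ wB) ≪≫
    ((restrictCompIso m' d _ hm'd).app V₀).symm ≪≫ restrictIdObj V₀⟩

end Groth.Agent.Pi1Hens
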