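import Groth.Agent.S9560
import Groth.Agent.Hensel.HfpTruncation
import Groth.Agent.LocalCrit.Flatness
import Groth.Agent.FlatMisc.PowLocal

/-!
# Etaleness along a closed subset from the truncations
-/

set_option autoImplicit false
set_option linter.style.haveILetI false

universe u

open TensorProduct

namespace Groth.Agent.Pi1Hens

open Groth.Agent

/-- A finite algebra over a noetherian ring whose truncations are etale is etale along the closed subset. -/
theorem isEtaleAt_of_truncations {R B : Type u} [CommRing R] [CommRing B] [Algebra R B] [IsNoetherianRing R]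
    [Module.Finite R B] (J : Ideal R) (h : ∀ n : ℕ, Algebra.Etale (R ⧸ J ^ (n + 1)) ((R ⧸ J ^ (n + 1)) ⊗[R] B))
    (q : Ideal B) [q.IsPrime] (hq : J.map (algebraMap R B) ≤ q) : Algebra.IsEtaleAt R q := by
  haveI : IsNoetherianRing B := IsNoetherianRing.of_finite R B
  haveI : Algebra.FinitePresentation R B := Algebra.FinitePresentation.of_finiteType.mp inferInstance
  let M := LocalizedModule q.primeCompl B
  haveI : IsLocalizedModule q.primeCompl (Algebra.linearMap B (Localization.AtPrime q)) :=
    (isLocalizedModule_iff_isLocalization' _ _).2 inferInstance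
  -- flatness of the local ring
  haveI hflat : Module.Flat R (Localization.AtPrime q) := by
    refine LocalCrit.flat_of_forall_quotient_pow (B := Localization.AtPrime q) J ?_ fun n => ?_
    · rw [IsLocalRing.jacobson_eq_maximalIdeal _ bot_ne_top, IsScalarTower.algebraMap_eq R B (Localization.AtPrime q),
        ← Ideal.map_map, ← Localization.AtPrime.map_eq_maximalIdeal]
      exact Ideal.map_mono hq
    · have hB : LocalCrit.KeepsInjective (J ^ n) B := by
        rcases n with _ | n
        · intro N N' _ _ _ _ g hN hN' hg
          haveI : Subsingleton N := ⟨fun a b => by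
            have h1 : ∀ c : N, c = 0 := fun c => by
              simpa using @hN c ⟨(1 : R), by simp⟩
            rw [h1 a, h1 b]⟩
          exact Function.injective_of_subsingleton _
        · haveI := h n
          exact LocalCrit.keepsInjective_of_flat (J ^ (n + 1)) B
      have h2 := FlatMisc.keepsInjective_localizedModule (R := R) (J ^ n) q.primeCompl hB
      exact h2
  let p := q.under R
  haveI : Algebra.IsUnramifiedAt R q := by
    let e : ((R ⧸ J) ⊗[R] B) ≃ₐ[R] (B ⧸ J.map (algebraMap R B)) :=
      ((Algebra.TensorProduct.quotIdealMapEquivTensorQuot B J).restrictScalars R |>.trans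
        (Algebra.TensorProduct.comm R B (R ⧸ J))).symm
    let e' : ((R ⧸ J) ⊗[R] B) ≃ₐ[R ⧸ J] (B ⧸ J.map (algebraMap R B)) := AlgEquiv.ofRingEquiv (f := e.toRingEquiv)
      fun a => by
        obtain ⟨a, rfl⟩ := Ideal.Quotient.mk_surjective a
        exact e.commutes a
    have h0 := h 0
    rw [pow_one] at h0
    haveI : Algebra.FormallyUnramified (R ⧸ J) (B ⧸ J.map (algebraMap R B)) :=
      Algebra.FormallyUnramified.of_equiv e'
    exact Hensel.isUnramifiedAt_of_unramified_quotient J q hq
  haveI : q.LiesOver p := ⟨rfl⟩
  letI := Localization.AtPrime.algebraOfLiesOver p q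
  obtain ⟨hsep, hmap⟩ := (Algebra.isUnramifiedAt_iff_map_eq R p q).mp inferInstance
  refine (S9560.result R B p q).2 ⟨?_, hmap, inferInstance, hsep⟩
  exact (Module.flat_iff_of_isLocalization (Localization.AtPrime p) p.primeCompl (M := Localization.AtPrime q)).2 hflat

end Groth.Agent.Pi1Hens
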