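import Groth.Agent.Pi1Hens.FF
import Groth.Agent.Pi1Hens.EtaleAt
import Groth.Agent.AlgzFin.Main
import Groth.Agent.S0238

/-!
# Essential surjectivity over a complete noetherian base
-/

set_option autoImplicit false
set_option linter.style.haveILetI false
set_option backward.isDefEq.respectTransparency false
set_option backward.isDefEq.respectTransparency.types false
set_option maxHeartbeats 1000000

universe u

open CategoryTheory CategoryTheory.Limits AlgebraicGeometry Opposite TopologicalSpace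

noncomputable section

namespace Groth.Agent.Pi1Hens

open Groth.Agent

/-- A point where the ring map is etale has an etale neighbourhood in the scheme. -/
theorem exists_open_etale {W X : Scheme.{u}} (i : W ⟶ X) [IsAffineHom i] {U : X.Opens} (hU : IsAffineOpen U) {x : W}
    (hx : i x ∈ U)
    (h : letI := (i.app U).hom.toAlgebra
      Algebra.IsEtaleAt Γ(X, U) ((hU.preimage i).primeIdealOf ⟨x, hx⟩).asIdeal)
    (hfp : (i.app U).hom.FinitePresentation) :
    ∃ D : W.Opens, x ∈ D ∧ Etale (D.ι ≫ i) := by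
  letI := (i.app U).hom.toAlgebra
  haveI : Algebra.FinitePresentation Γ(X, U) Γ(W, i ⁻¹ᵁ U) := hfp
  obtain ⟨b, hb, het⟩ := @Algebra.exists_etale_of_isEtaleAt Γ(X, U) Γ(W, i ⁻¹ᵁ U) _ _ _ _
    ((hU.preimage i).primeIdealOf ⟨x, hx⟩).asIdeal inferInstance h
  have hV := hU.preimage i
  let D := W.basicOpen b
  have hDU : D ≤ i ⁻¹ᵁ U := W.basicOpen_le b
  have hxD : x ∈ D := by
    have h1 : hV.primeIdealOf ⟨x, hx⟩ ∈ PrimeSpectrum.basicOpen b := hb
    have h2 : hV.primeIdealOf ⟨x, hx⟩ ∈ hV.fromSpec ⁻¹ᵁ W.basicOpen b := by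
      rw [hV.fromSpec_preimage_basicOpen]; exact h1
    have h3 := hV.fromSpec_primeIdealOf ⟨x, hx⟩
    exact (congrArg (· ∈ W.basicOpen b) h3).mp h2
  refine ⟨D, hxD, ?_⟩
  have hE : (i.appLE U D hDU).hom.Etale := by
    haveI := hV.isLocalization_basicOpen b
    let res := W.presheaf.map (homOfLE (W.basicOpen_le b)).op
    letI : Algebra Γ(X, U) Γ(W, D) := (i.appLE U D hDU).hom.toAlgebra
    haveI : IsScalarTower Γ(X, U) Γ(W, i ⁻¹ᵁ U) Γ(W, D) := IsScalarTower.of_algebraMap_eq fun a => rfl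
    haveI := het
    haveI : Algebra.Etale Γ(X, U) Γ(W, D) := Algebra.Etale.of_equiv
      ((IsLocalization.algEquiv (Submonoid.powers b) (Localization.Away b) Γ(W, D)).restrictScalars Γ(X, U))
    exact RingHom.etale_algebraMap.2 inferInstance
  haveI : IsAffine U.toScheme := hU
  haveI : IsAffine D.toScheme := hV.basicOpen b
  have hR : Etale (i.resLE U D hDU) := by
    rw [HasRingHomProperty.iff_of_isAffine (P := @Etale),
      RingHom.Etale.respectsIso.arrow_mk_iso_iff (arrowResLEAppIso i _ _ hDU)]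
    exact hE
  rw [← Scheme.Hom.resLE_comp_ι i hDU]
  infer_instance

variable {A : Type u} [CommRing A] [IsNoetherianRing A] {I : Ideal A}

/-- A finite morphism whose truncations are etale is etale over the closed part. -/
theorem exists_open_etale_of_thick {X W : Scheme.{u}} (f : X ⟶ Spec (CommRingCat.of A)) [LocallyOfFiniteType f]
    (i : W ⟶ X) [IsFinite i] (h : ∀ n, Etale (pullback.snd i (CohB1.thickι f I n))) (x : W)
    (hx : x ∈ EtH0Lib.Zof (i ≫ f) I) : ∃ D : W.Opens, x ∈ D ∧ Etale (D.ι ≫ i) := by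
  haveI : IsLocallyNoetherian X := LocallyOfFiniteType.isLocallyNoetherian f
  obtain ⟨U, hU, hxU, -⟩ := exists_isAffineOpen_mem_and_subset (x := i x) (U := (⊤ : X.Opens)) trivial
  haveI : IsNoetherianRing Γ(X, U) := IsLocallyNoetherian.component_noetherian ⟨U, hU⟩
  let R := Γ(X, U)
  let B := Γ(W, i ⁻¹ᵁ U)
  letI : Algebra R B := (i.app U).hom.toAlgebra
  haveI : Module.Finite R B := IsFinite.finite_app i U hU
  haveI : Algebra.FinitePresentation R B := Algebra.FinitePresentation.of_finiteType.mp inferInstance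
  let σ : CommRingCat.of A ⟶ R := Spec.preimage (hU.fromSpec ≫ f)
  have hσ : Spec.map σ = hU.fromSpec ≫ f := Spec.map_preimage _
  let J : Ideal R := I.map σ.hom
  refine exists_open_etale i hU hxU (isEtaleAt_of_truncations J (fun n => ?_) _ ?_) ‹_›
  · let τ : A ⧸ I ^ (n + 1) →+* R ⧸ J ^ (n + 1) := Ideal.quotientMap _ σ.hom (by
      rw [← Ideal.map_pow]; exact Ideal.le_comap_map)
    let k : Spec (CommRingCat.of (R ⧸ J ^ (n + 1))) ⟶ Spec R :=
      Spec.map (CommRingCat.ofHom (Ideal.Quotient.mk (J ^ (n + 1))))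
    have hk : (k ≫ hU.fromSpec) ≫ f = Spec.map (CommRingCat.ofHom τ) ≫ CohB1.specQuot I n := by
      rw [Category.assoc, ← hσ]
      simp only [k, CohB1.specQuot, ← Spec.map_comp]
      rfl
    let c : Spec (CommRingCat.of (R ⧸ J ^ (n + 1))) ⟶ CohB1.thick f I n :=
      pullback.lift (k ≫ hU.fromSpec) (Spec.map (CommRingCat.ofHom τ)) hk
    have sqU : IsPullback (hU.preimage i).fromSpec (Spec.map (i.app U)) i hU.fromSpec := by
      refine (IsOpenImmersion.isPullback (Spec.map (i.app U)) (hU.preimage i).fromSpec hU.fromSpec i ?_ ?_).flip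
      · rw [Scheme.Hom.app_eq_appLE]
        exact (IsAffineOpen.SpecMap_appLE_fromSpec i hU (hU.preimage i) le_rfl).symm
      · rw [(hU.preimage i).opensRange_fromSpec, hU.opensRange_fromSpec]
    have hP : Etale (pullback.snd i (k ≫ hU.fromSpec)) := by
      have hc : c ≫ CohB1.thickι f I n = k ≫ hU.fromSpec := pullback.lift_fst _ _ _
      rw [← hc]
      haveI := h n
      have := MorphismProperty.pullback_snd (P := @Etale) (pullback.snd i (CohB1.thickι f I n)) c inferInstance
      rw [← pullbackLeftPullbackSndIso_hom_snd i (CohB1.thickι f I n) c] at this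
      exact (MorphismProperty.cancel_left_of_respectsIso @Etale _ _).1 this
    have sqV : IsPullback (pullback.fst (Spec.map (i.app U)) k ≫ (hU.preimage i).fromSpec)
        (pullback.snd (Spec.map (i.app U)) k) i (k ≫ hU.fromSpec) :=
      (IsPullback.of_hasPullback _ _).paste_horiz sqU
    have hS : Etale (pullback.snd (Spec.map (CommRingCat.ofHom (algebraMap R B))) k) := by
      show Etale (pullback.snd (Spec.map (i.app U)) k)
      rw [← sqV.isoPullback_hom_snd]
      infer_instance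
    have hQ : Etale (Spec.map (CommRingCat.ofHom (Algebra.TensorProduct.includeLeftRingHom
        (R := R) (A := R ⧸ J ^ (n + 1)) (B := B)))) := by
      rw [← pullbackSpecIso_inv_fst, ← pullbackSymmetry_hom_comp_snd]
      exact inferInstanceAs (Etale ((pullbackSpecIso R (R ⧸ J ^ (n + 1)) B).inv ≫
        (pullbackSymmetry (Spec.map (CommRingCat.ofHom (algebraMap R (R ⧸ J ^ (n + 1))))) _).hom ≫
          pullback.snd (Spec.map (CommRingCat.ofHom (algebraMap R B))) k))
    exact RingHom.etale_algebraMap.1 ((HasRingHomProperty.Spec_iff (P := @Etale)).1 hQ)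
  · rw [Ideal.map_map, Ideal.map_le_iff_le_comap]
    intro a ha
    have h0 : a ∈ ((i ≫ f) x).asIdeal := hx ha
    have h1 : (Spec.map σ) ((Spec.map (i.app U)) ((hU.preimage i).primeIdealOf ⟨x, hxU⟩)) = (i ≫ f) x := by
      rw [hσ, ← Scheme.Hom.comp_apply, ← Category.assoc, Scheme.Hom.app_eq_appLE,
        IsAffineOpen.SpecMap_appLE_fromSpec i hU (hU.preimage i) le_rfl, Category.assoc, Scheme.Hom.comp_apply,
        (hU.preimage i).fromSpec_primeIdealOf]
    rw [← h1] at h0
    exact h0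

theorem eq_top_of_Zof_subset {W : Scheme.{u}} (hI : I ≤ Ideal.jacobson ⊥) (g : W ⟶ Spec (CommRingCat.of A))
    [IsProper g] (O : W.Opens) (h : ∀ x ∈ EtH0Lib.Zof g I, x ∈ O) : O = ⊤ := by
  by_contra hne
  obtain ⟨x, hx, hxZ⟩ := inter_Zof_nonempty hI g g.isClosedMap O.isOpen.isClosed_compl
    (Set.nonempty_compl.2 fun he => hne (Opens.ext he))
  exact hx (h x hxZ)

/-- Over a complete noetherian base every finite etale cover of the closed part is algebraisable. -/
theorem exists_lift_complete [IsAdicComplete I A] {X : Scheme.{u}} (f : X ⟶ Spec (CommRingCat.of A)) [IsProper f]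
    (V₀ : FEt.Cat (CohB1.thick f I 0)) :
    ∃ V : FEt.Cat X, Nonempty ((FEt.restrict (CohB1.thickι f I 0)).obj V ≅ V₀) := by
  haveI hsq : ∀ n, IsClosedImmersion (CohB1.specQuot I n) := fun n =>
    IsClosedImmersion.spec_of_surjective _ Ideal.Quotient.mk_surjective
  haveI : ∀ n, IsClosedImmersion (CohB1.thickι f I n) := fun n =>
    MorphismProperty.pullback_fst (P := @IsClosedImmersion) f (CohB1.specQuot I n) inferInstance
  have hT : ∀ n, CohB1.thickTrans f I n ≫ CohB1.thickι f I (n + 1) = CohB1.thickι f I n := fun n => by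
    simp [CohB1.thickTrans]
  haveI hTc : ∀ n, IsClosedImmersion (CohB1.thickTrans f I n) := fun n => by
    haveI : IsClosedImmersion (CohB1.thickTrans f I n ≫ CohB1.thickι f I (n + 1)) := by rw [hT]; infer_instance
    exact IsClosedImmersion.of_comp _ (CohB1.thickι f I (n + 1))
  have hrange : ∀ n, Set.range (CohB1.thickι f I n) = EtH0Lib.Zof f I := fun n => by
    refine (Scheme.Pullback.range_fst f (CohB1.specQuot I n)).trans ?_
    rw [CohB1.specQuot, HensCouple7.range_specMap_mk,
      show EtH0Lib.Zof f I = f ⁻¹' PrimeSpectrum.zeroLocus (I : Set A) from rfl]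
    congr 1
    ext p
    exact ⟨fun h a ha => p.isPrime.mem_of_pow_mem (n + 1) (h (Ideal.pow_mem_pow ha _)),
      fun h a ha => h (Ideal.pow_le_self (Nat.succ_ne_zero n) ha)⟩
  haveI hTs : ∀ n, Surjective (CohB1.thickTrans f I n) := fun n => ⟨fun z => by
    obtain ⟨w, hw⟩ : CohB1.thickι f I (n + 1) z ∈ Set.range (CohB1.thickι f I n) :=
      (hrange n).ge ((hrange (n + 1)).le ⟨z, rfl⟩)
    refine ⟨w, (CohB1.thickι f I (n + 1)).isClosedEmbedding.injective ?_⟩
    rw [← Scheme.Hom.comp_apply, hT, hw]⟩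
  haveI : ∀ n, (FEt.restrict (CohB1.thickTrans f I n)).IsEquivalence := fun n => S0238.result _
  let Yn : ∀ n, FEt.Cat (CohB1.thick f I n) := fun n => Nat.rec (motive := fun n => FEt.Cat (CohB1.thick f I n)) V₀ (fun n Vn =>
    (FEt.restrict (CohB1.thickTrans f I n)).objPreimage Vn) n
  let e : ∀ n, (FEt.restrict (CohB1.thickTrans f I n)).obj (Yn (n + 1)) ≅ Yn n := fun n =>
    (FEt.restrict (CohB1.thickTrans f I n)).objObjPreimageIso (Yn n)
  let y : ∀ n, (Yn n).left ⟶ CohB1.thick f I n := fun n => (Yn n).hom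
  let el : ∀ n, pullback (y (n + 1)) (CohB1.thickTrans f I n) ≅ (Yn n).left := fun n =>
    ⟨(e n).hom.left, (e n).inv.left, congrArg (fun k => k.left) (e n).hom_inv_id,
      congrArg (fun k => k.left) (e n).inv_hom_id⟩
  have hel : ∀ n, (el n).hom ≫ y n = pullback.snd (y (n + 1)) (CohB1.thickTrans f I n) := fun n =>
    MorphismProperty.Over.w (e n).hom
  let t : ∀ n, (Yn n).left ⟶ (Yn (n + 1)).left := fun n =>
    (el n).inv ≫ pullback.fst (y (n + 1)) (CohB1.thickTrans f I n)
  have ht : ∀ n, IsPullback (t n) (y n) (y (n + 1)) (CohB1.thickTrans f I n) := fun n =>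
    IsPullback.of_iso_pullback ⟨by
      show ((el n).inv ≫ pullback.fst _ _) ≫ _ = _
      rw [Category.assoc, pullback.condition, ← hel, Category.assoc, Iso.inv_hom_id_assoc]⟩
      (el n).symm rfl (by rw [Iso.symm_hom, ← hel, Iso.inv_hom_id_assoc])
  haveI : IsFinite (y 0) := (Yn 0).prop.1
  have hp : IsProper (y 0 ≫ CohB1.thickToBase f I 0) :=
    MorphismProperty.comp_mem (W := @IsProper) (y 0) (CohB1.thickToBase f I 0)
      (inferInstance : IsProper (y 0))
      (MorphismProperty.pullback_snd (P := @IsProper) f (CohB1.specQuot I 0) (inferInstance : IsProper f))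
  letI : X.Over (Spec (CommRingCat.of A)) := ⟨f⟩
  haveI : IsSeparated (X ↘ Spec (CommRingCat.of A)) := (inferInstance : IsSeparated f)
  haveI : LocallyOfFiniteType (X ↘ Spec (CommRingCat.of A)) := (inferInstance : LocallyOfFiniteType f)
  haveI : QuasiCompact (X ↘ Spec (CommRingCat.of A)) := (inferInstance : QuasiCompact f)
  obtain ⟨W, i, w, hi, hiP, -, hw⟩ := AlgzFin.exists_algebraization_finite f rfl I (fun n => (Yn n).left) y t
    (fun n => (Yn n).prop.1) ht hp
  haveI := hi
  haveI := hiP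
  haveI hE : Etale i := by
    have hn : ∀ n, Etale (pullback.snd i (CohB1.thickι f I n)) := fun n => by
      haveI : Etale (y n) := (Yn n).prop.2
      rw [← (hw n).isoPullback_inv_snd]
      infer_instance
    have hcov : (⨆ D : {D : W.Opens // Etale (D.ι ≫ i)}, D.1) = ⊤ :=
      eq_top_of_Zof_subset (IsAdicComplete.le_jacobson_bot I) (i ≫ f) _ fun x hx => by
        obtain ⟨D, hxD, hD⟩ := exists_open_etale_of_thick f i hn x hx
        exact Opens.mem_iSup.2 ⟨⟨D, hD⟩, hxD⟩
    exact IsZariskiLocalAtSource.of_openCover (P := @Etale) (W.openCoverOfIsOpenCover _ hcov) fun D => D.2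
  refine ⟨MorphismProperty.Over.mk ⊤ i ⟨hi, hE⟩,
    ⟨MorphismProperty.Over.isoMk (hw 0).isoPullback.symm ?_⟩⟩
  show (hw 0).isoPullback.inv ≫ y 0 = pullback.snd i (CohB1.thickι f I 0)
  exact (hw 0).isoPullback_inv_snd

/-- Restriction along a composite. -/
def restrictCompIso {X₁ X₂ X₃ : Scheme.{u}} (a : X₁ ⟶ X₂) (b : X₂ ⟶ X₃) (c : X₁ ⟶ X₃) (h : a ≫ b = c) :
    FEt.restrict c ≅ FEt.restrict b ⋙ FEt.restrict a :=
  (eqToIso (by rw [← h]) : FEt.restrict c ≅ FEt.restrict (a ≫ b)) ≪≫ MorphismProperty.Over.pullbackComp (P := FEt.prop) (Q := ⊤) a b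

theorem specQuot_zero_isIso : ∃ e : Spec (CommRingCat.of (A ⧸ I)) ≅ Spec (CommRingCat.of (A ⧸ I ^ (0 + 1))),
    e.hom ≫ CohB1.specQuot I 0 = Spec.map (CommRingCat.ofHom (Ideal.Quotient.mk I)) := by
  let r : (A ⧸ I ^ (0 + 1)) ≃+* A ⧸ I := Ideal.quotEquivOfEq (by rw [zero_add, pow_one])
  refine ⟨Scheme.Spec.mapIso r.toCommRingCatIso.op, ?_⟩
  show Spec.map _ ≫ Spec.map _ = _
  rw [← Spec.map_comp]
  rfl

/-- Over a complete noetherian base every finite etale cover of `X ⊗ A/I` is algebraisable. -/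
theorem exists_lift_complete' [IsAdicComplete I A] {X : Scheme.{u}} (f : X ⟶ Spec (CommRingCat.of A)) [IsProper f]
    (V₀ : FEt.Cat (pullback f (Spec.map (CommRingCat.ofHom (Ideal.Quotient.mk I))))) :
    ∃ V : FEt.Cat X,
      Nonempty ((FEt.restrict (pullback.fst f (Spec.map (CommRingCat.ofHom (Ideal.Quotient.mk I))))).obj V ≅ V₀) := by
  obtain ⟨e, he⟩ := specQuot_zero_isIso (A := A) (I := I)
  let d : pullback f (Spec.map (CommRingCat.ofHom (Ideal.Quotient.mk I))) ⟶ CohB1.thick f I 0 :=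
    pullback.map f _ f (CohB1.specQuot I 0) (𝟙 X) e.hom (𝟙 _) (by simp) (by rw [Category.comp_id, he])
  haveI : IsIso d := pullback.map_isIso _ _ _ _ _ _ _ _ _
  haveI := S0238.result d
  obtain ⟨V, ⟨u⟩⟩ := exists_lift_complete f ((FEt.restrict d).objPreimage V₀)
  refine ⟨V, ⟨(restrictCompIso d (CohB1.thickι f I 0) _ ?_).app V ≪≫ (FEt.restrict d).mapIso u ≪≫
    (FEt.restrict d).objObjPreimageIso V₀⟩⟩
  exact (pullback.lift_fst _ _ _).trans (Category.comp_id _)

end Groth.Agent.Pi1Hens
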