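import Groth.Agent.Pi1Hens.Complete
import Groth.Agent.Pi1Ext.GeomModel

/-!
# Covers of the geometric closed fibre over a complete local base
-/

set_option autoImplicit false
set_option linter.style.haveILetI false
set_option backward.isDefEq.respectTransparency false
set_option maxHeartbeats 1000000

universe u

open CategoryTheory CategoryTheory.Limits AlgebraicGeometry

noncomputable section

namespace Groth.Agent.Pi1Hens

open Groth.Agent

/-- A finite etale `p : T ⟶ S` and a cover `W` of `T`: `W` pulled back along a lift of `c` is open and closed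
in the pullback along `c` of `W` viewed over `S`. -/
theorem exists_clopenImmersion {S T R : Scheme.{u}} (p : T ⟶ S) (hp : FEt.prop p) (W : FEt.Cat T) (b : R ⟶ T)
    (c : R ⟶ S) (hc : b ≫ p = c) :
    ∃ ι : (FEt.restrict b).obj W ⟶
        (FEt.restrict c).obj (MorphismProperty.Over.mk ⊤ (W.hom ≫ p) (MorphismProperty.comp_mem _ _ _ W.prop hp)),
      IsOpenImmersion ι.left ∧ IsClosedImmersion ι.left := by
  have hcond : pullback.fst W.hom b ≫ W.hom ≫ p = pullback.snd W.hom b ≫ c := by
    rw [pullback.condition_assoc, hc]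
  let l : pullback W.hom b ⟶ pullback (W.hom ≫ p) c := pullback.lift (pullback.fst _ _) (pullback.snd _ _) hcond
  have hl : l ≫ pullback.snd (W.hom ≫ p) c = pullback.snd W.hom b := pullback.lift_snd _ _ _
  haveI : Mono l := ⟨fun a a' h => pullback.hom_ext
    (by simpa [l] using congrArg (· ≫ pullback.fst (W.hom ≫ p) c) h)
    (by simpa [l] using congrArg (· ≫ pullback.snd (W.hom ≫ p) c) h)⟩
  have hlp : FEt.prop l := Pi1X.prop_of_comp l (pullback.snd (W.hom ≫ p) c)
    (MorphismProperty.pullback_snd _ _ (MorphismProperty.comp_mem _ _ _ W.prop hp))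
    (by rw [hl]; exact MorphismProperty.pullback_snd _ _ W.prop)
  haveI : IsFinite l := hlp.1
  haveI : Etale l := hlp.2
  exact ⟨MorphismProperty.Over.homMk l hl, IsOpenImmersion.of_flat_of_mono l,
    (IsClosedImmersion.iff_isFinite_and_mono l).2 ⟨inferInstance, inferInstance⟩⟩

variable {A : Type u} [CommRing A] [IsNoetherianRing A] [IsLocalRing A]
  [IsAdicComplete (IsLocalRing.maximalIdeal A) A]

theorem exists_clopen_in_restrict {X : Scheme.{u}} (f : X ⟶ Spec (CommRingCat.of A)) [IsProper f]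
    (ξ : Spec (CommRingCat.of (AlgebraicClosure (IsLocalRing.ResidueField A))) ⟶ Spec (CommRingCat.of A))
    (hξ : ξ = Spec.map (CommRingCat.ofHom ((algebraMap (IsLocalRing.ResidueField A)
      (AlgebraicClosure (IsLocalRing.ResidueField A))).comp (IsLocalRing.residue A))))
    (V : FEt.Cat (pullback f ξ)) :
    ∃ (U : FEt.Cat X) (ι : V ⟶ (FEt.restrict (pullback.fst f ξ)).obj U),
      IsOpenImmersion ι.left ∧ IsClosedImmersion ι.left := by
  let k := IsLocalRing.ResidueField A
  let K := AlgebraicClosure k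
  let σ : Spec (CommRingCat.of k) ⟶ Spec (CommRingCat.of A) :=
    Spec.map (CommRingCat.ofHom (Ideal.Quotient.mk (IsLocalRing.maximalIdeal A)))
  let f₀ : pullback f σ ⟶ Spec (CommRingCat.of k) := pullback.snd f σ
  haveI : IsProper f₀ := MorphismProperty.pullback_snd (P := @IsProper) f σ inferInstance
  haveI : CompactSpace ↥(pullback f σ) := QuasiCompact.compactSpace_of_compactSpace f₀
  haveI : QuasiSeparatedSpace ↥(pullback f σ) := quasiSeparatedSpace_of_quasiSeparated f₀
  let a : Spec (CommRingCat.of K) ⟶ Spec (CommRingCat.of k) := Spec.map (CommRingCat.ofHom (algebraMap k K))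
  have haσ : a ≫ σ = ξ := by
    rw [hξ]
    simp only [a, σ, ← Spec.map_comp]
    rfl
  let e : pullback f₀ a ≅ pullback f ξ := pullbackLeftPullbackSndIso f σ a ≪≫ pullback.congrHom rfl haσ
  have he : e.hom ≫ pullback.fst f ξ = pullback.fst f₀ a ≫ pullback.fst f σ := by
    simp [e, f₀]
  haveI : IsClosedImmersion e.hom := inferInstance
  haveI := S0238.result e.hom
  let VK : FEt.Cat (Pi1Ext.Geom.bcs f₀ K) := (FEt.restrict e.hom).obj V
  obtain ⟨E, _, _, _, _, ιE, VE, ⟨u⟩⟩ := Pi1Ext.Geom.exists_separable_model f₀ K VK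
  obtain ⟨l, hlo, hlc⟩ := exists_clopenImmersion _ (Pi1Ext.Geom.fet_fst f₀ E) VE (Pi1Ext.Geom.bcm f₀ ιE)
    (pullback.fst f₀ a) (Pi1Ext.Geom.bcm_fst f₀ ιE)
  let W₀ : FEt.Cat (pullback f σ) := MorphismProperty.Over.mk ⊤ (VE.hom ≫ pullback.fst f₀ _)
    (MorphismProperty.comp_mem _ _ _ VE.prop (Pi1Ext.Geom.fet_fst f₀ E))
  obtain ⟨U, ⟨w⟩⟩ := exists_lift_complete' f W₀
  let z : (FEt.restrict e.hom).obj ((FEt.restrict (pullback.fst f ξ)).obj U) ≅ (FEt.restrict (pullback.fst f₀ a)).obj W₀ :=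
    ((restrictCompIso e.hom (pullback.fst f ξ) _ rfl).app U).symm ≪≫ (eqToIso (by rw [he]) :
      (FEt.restrict (e.hom ≫ pullback.fst f ξ)).obj U ≅ (FEt.restrict (pullback.fst f₀ a ≫ pullback.fst f σ)).obj U) ≪≫
      (restrictCompIso (pullback.fst f₀ a) (pullback.fst f σ) _ rfl).app U ≪≫
      (FEt.restrict (pullback.fst f₀ a)).mapIso w
  let ψ : (FEt.restrict e.hom).obj V ⟶ (FEt.restrict e.hom).obj ((FEt.restrict (pullback.fst f ξ)).obj U) :=
    u.inv ≫ l ≫ z.inv
  obtain ⟨ι, hι⟩ := (FEt.restrict e.hom).map_surjective ψ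
  refine ⟨U, ι, ?_⟩
  let FV := (FEt.restrict e.hom)
  haveI h1 : IsIso u.inv.left := ((MorphismProperty.Over.forget FEt.prop ⊤ _ ⋙ CategoryTheory.Over.forget _).mapIso u.symm).isIso_hom
  haveI h2 : IsIso z.inv.left := ((MorphismProperty.Over.forget FEt.prop ⊤ _ ⋙ CategoryTheory.Over.forget _).mapIso z.symm).isIso_hom
  haveI := hlo
  haveI := hlc
  have hψ : IsOpenImmersion ψ.left ∧ IsClosedImmersion ψ.left := by
    show IsOpenImmersion (u.inv.left ≫ l.left ≫ z.inv.left) ∧ IsClosedImmersion (u.inv.left ≫ l.left ≫ z.inv.left)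
    exact ⟨inferInstance, inferInstance⟩
  have hsq : (FV.map ι).left ≫ pullback.fst ((FEt.restrict (pullback.fst f ξ)).obj U).hom e.hom =
      pullback.fst V.hom e.hom ≫ ι.left := by
    simp [FV, FEt.restrict]
  haveI : IsIso (pullback.fst ((FEt.restrict (pullback.fst f ξ)).obj U).hom e.hom) := inferInstance
  haveI : IsIso (pullback.fst V.hom e.hom) := inferInstance
  have hι' : ι.left = inv (pullback.fst V.hom e.hom) ≫ ψ.left ≫
      pullback.fst ((FEt.restrict (pullback.fst f ξ)).obj U).hom e.hom := by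
    rw [← hι]
    show ι.left = inv (pullback.fst V.hom e.hom) ≫ (FV.map ι).left ≫ _
    rw [hsq, IsIso.inv_hom_id_assoc]
  haveI := hψ.1
  haveI := hψ.2
  rw [hι']
  exact ⟨inferInstance, inferInstance⟩

end Groth.Agent.Pi1Hens
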